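import Mathlib

/-! Exactness of `X ⊗ F` for all modules `X`, `F` a complex of flat modules over a noetherian ring,
is detected by the residue fields. -/

universe u

namespace Groth.Agent.TorDetect

open TensorProduct

variable {A : Type u} [CommRing A] (F : ℕ → Type u) [∀ i, AddCommGroup (F i)] [∀ i, Module A (F i)]
  (d : ∀ i, F (i + 1) →ₗ[A] F i)

/-- `X ⊗ F` is exact in all degrees `i + 1` with `n ≤ i`. -/
def Good (n : ℕ) (X : Type u) [AddCommGroup X] [Module A X] : Prop :=
  ∀ i, n ≤ i → ∀ z : X ⊗[A] F (i + 1), (d i).lTensor X z = 0 → ∃ w, (d (i + 1)).lTensor X w = z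

lemma lTensor_rTensor {X Y : Type u} [AddCommGroup X] [Module A X] [AddCommGroup Y] [Module A Y]
    (g : X →ₗ[A] Y) (i : ℕ) (z : X ⊗[A] F (i + 1)) :
    (d i).lTensor Y (g.rTensor _ z) = g.rTensor _ ((d i).lTensor X z) := by
  induction z using TensorProduct.induction_on with
  | zero => simp
  | tmul x y => simp
  | add a b ha hb => simp [ha, hb]

lemma good_of_subsingleton (n : ℕ) (X : Type u) [AddCommGroup X] [Module A X] [Subsingleton X] :
    Good F d n X := fun i _ z _ => ⟨0, Subsingleton.elim _ _⟩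

lemma good_of_equiv {n : ℕ} {X Y : Type u} [AddCommGroup X] [Module A X] [AddCommGroup Y] [Module A Y]
    (e : X ≃ₗ[A] Y) (h : Good F d n X) : Good F d n Y := by
  intro i hi z hz
  obtain ⟨w, hw⟩ := h i hi (e.symm.toLinearMap.rTensor _ z) (by rw [lTensor_rTensor, hz, map_zero])
  refine ⟨e.toLinearMap.rTensor _ w, ?_⟩
  rw [lTensor_rTensor, hw, ← LinearMap.rTensor_comp_apply]
  simp

variable (hd : ∀ i x, d i (d (i + 1) x) = 0)
include hd

omit hd in
lemma good_of_exact {n : ℕ} [∀ i, Module.Flat A (F i)] {X Y Z : Type u} [AddCommGroup X] [Module A X]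
    [AddCommGroup Y] [Module A Y] [AddCommGroup Z] [Module A Z] {f : X →ₗ[A] Y} {g : Y →ₗ[A] Z}
    (hfg : Function.Exact f g) (hf : Function.Injective f) (hg : Function.Surjective g)
    (hd : ∀ i x, d i (d (i + 1) x) = 0)
    (hX : Good F d n X) (hZ : Good F d n Z) : Good F d n Y := by
  intro i hi z hz
  obtain ⟨w, hw⟩ := hZ i hi (g.rTensor _ z) (by rw [lTensor_rTensor, hz, map_zero])
  obtain ⟨w', rfl⟩ := LinearMap.rTensor_surjective (F (i + 1 + 1)) hg w
  have h1 : g.rTensor _ (z - (d (i + 1)).lTensor Y w') = 0 := by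
    rw [map_sub, ← lTensor_rTensor, hw, sub_self]
  obtain ⟨x, hx⟩ := (Module.Flat.rTensor_exact (M := F (i + 1)) (R := A) hfg _).1 h1
  have hdd : ∀ v, (d i).lTensor Y ((d (i + 1)).lTensor Y v) = 0 := fun v => by
    rw [← LinearMap.lTensor_comp_apply, show d i ∘ₗ d (i + 1) = 0 from LinearMap.ext (hd i),
      LinearMap.lTensor_zero, LinearMap.zero_apply]
  have h2 : (d i).lTensor X x = 0 := by
    apply Module.Flat.rTensor_preserves_injective_linearMap (M := F i) f hf
    rw [← lTensor_rTensor, hx, map_sub, hz, hdd, sub_self, map_zero]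
  obtain ⟨v, hv⟩ := hX i hi x h2
  exact ⟨w' + f.rTensor _ v, by rw [map_add, lTensor_rTensor, hv, hx, add_sub_cancel]⟩

variable [∀ i, Module.Flat A (F i)]

lemma good_quotient_prime [IsNoetherianRing A] {n : ℕ} (p : Ideal A) [p.IsPrime]
    (hk : Good F d n p.ResidueField)
    (hQ : ∀ q : Ideal A, q.IsPrime → p < q → Good F d n (A ⧸ q)) : Good F d n (A ⧸ p) := by
  classical
  -- quotients strictly above `p` are good
  have hbig : ∀ s ∉ p, Good F d n (A ⧸ (p ⊔ Ideal.span {s})) := by
    intro s hs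
    refine IsNoetherianRing.induction_on_isQuotientEquivQuotientPrime A
      (M := A ⧸ (p ⊔ Ideal.span {s})) inferInstance
      (motive := fun N _ _ _ => (∀ a ∈ p ⊔ Ideal.span {s}, ∀ y : N, a • y = 0) → Good F d n N)
      ?_ ?_ ?_ (fun a ha y => ?_)
    · intro N _ _ _ _ _
      exact good_of_subsingleton F d n N
    · intro N _ _ _ q e hN
      have hq : p ⊔ Ideal.span {s} ≤ q.1 := fun a ha => by
        have h := hN a ha (e.symm (Ideal.Quotient.mk q.1 1))
        have h' := congrArg e h
        rw [map_smul, LinearEquiv.apply_symm_apply, map_zero] at h'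
        have h'' : Ideal.Quotient.mk q.1 (a * 1) = 0 := h'
        rwa [mul_one, Ideal.Quotient.eq_zero_iff_mem] at h''
      refine good_of_equiv F d e.symm (hQ q.1 q.2 (lt_of_le_of_ne (le_sup_left.trans hq) ?_))
      rintro rfl
      exact hs (hq (Ideal.mem_sup_right (Ideal.subset_span rfl)))
    · intro N₁ _ _ _ N₂ _ _ _ N₃ _ _ _ f g hf hg hfg h1 h3 hN
      refine good_of_exact F d hfg hf hg hd (h1 fun a ha y => hf ?_) (h3 fun a ha y => ?_)
      · rw [map_smul, map_zero]; exact hN a ha _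
      · obtain ⟨y, rfl⟩ := hg y
        rw [← map_smul, hN a ha, map_zero]
    · obtain ⟨y, rfl⟩ := Ideal.Quotient.mk_surjective y
      exact (Submodule.Quotient.mk_eq_zero _).2 (Ideal.mul_mem_right _ _ ha)
  intro i hi z hz
  let B := A ⧸ p
  let j : B →ₗ[A] p.ResidueField := (IsScalarTower.toAlgHom A B p.ResidueField).toLinearMap
  have hj : Function.Injective j := FaithfulSMul.algebraMap_injective B p.ResidueField
  obtain ⟨w, hw⟩ := hk i hi (j.rTensor _ z) (by rw [lTensor_rTensor, hz, map_zero])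
  have hden : ∀ w : p.ResidueField ⊗[A] F (i + 1 + 1),
      ∃ s ∉ p, ∃ w' : B ⊗[A] F (i + 1 + 1), j.rTensor _ w' = s • w := by
    intro w
    induction w using TensorProduct.induction_on with
    | zero => exact ⟨1, (Ideal.ne_top_iff_one p).1 Ideal.IsPrime.ne_top', 0, by simp⟩
    | tmul x y =>
      obtain ⟨⟨b, s'⟩, hb⟩ := IsLocalization.surj (nonZeroDivisors B) x
      obtain ⟨s, hs⟩ := Ideal.Quotient.mk_surjective (s' : B)
      refine ⟨s, fun h => nonZeroDivisors.ne_zero s'.2 ?_, b ⊗ₜ y, ?_⟩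
      · rw [← hs, Ideal.Quotient.eq_zero_iff_mem]; exact h
      · rw [LinearMap.rTensor_tmul, TensorProduct.smul_tmul']
        congr 1
        change algebraMap B p.ResidueField b = _
        rw [← hb, Algebra.smul_def, mul_comm, IsScalarTower.algebraMap_apply A B p.ResidueField]
        exact congrArg (fun t => algebraMap B p.ResidueField t * x) hs.symm
    | add a b ha hb =>
      obtain ⟨s, hs, a', ha'⟩ := ha
      obtain ⟨t, ht, b', hb'⟩ := hb
      refine ⟨s * t, fun h => (Ideal.IsPrime.mem_or_mem ‹_› h).elim hs ht, t • a' + s • b', ?_⟩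
      rw [map_add, map_smul, map_smul, ha', hb', smul_add, smul_smul, smul_smul, mul_comm t s]
  obtain ⟨s, hs, w', hw'⟩ := hden w
  have hinjF : ∀ l, Function.Injective (j.rTensor (F l)) := fun l =>
    Module.Flat.rTensor_preserves_injective_linearMap j hj
  have h1 : (d (i + 1)).lTensor B w' = s • z := hinjF _ (by
    rw [← lTensor_rTensor, hw', map_smul, hw, map_smul])
  -- the quotient by `s`
  let C := A ⧸ (p ⊔ Ideal.span {s})
  let q : B →ₗ[A] C := Submodule.mapQ p (p ⊔ Ideal.span {s}) LinearMap.id le_sup_left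
  have hexact : Function.Exact (s • (LinearMap.id : B →ₗ[A] B)) q := by
    intro y
    obtain ⟨a, rfl⟩ := Ideal.Quotient.mk_surjective y
    constructor
    · intro h
      have h' : a ∈ p ⊔ Ideal.span {s} := (Submodule.Quotient.mk_eq_zero _).1 h
      obtain ⟨a₁, ha₁, a₂, ha₂, rfl⟩ := Submodule.mem_sup.1 h'
      obtain ⟨c, rfl⟩ := Ideal.mem_span_singleton.1 ha₂
      refine ⟨Ideal.Quotient.mk p c, ?_⟩
      rw [map_add, Ideal.Quotient.eq_zero_iff_mem.2 ha₁, zero_add, LinearMap.smul_apply, LinearMap.id_apply]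
      rfl
    · rintro ⟨y, hy⟩
      obtain ⟨c, rfl⟩ := Ideal.Quotient.mk_surjective y
      rw [← hy, LinearMap.smul_apply, map_smul]
      exact (Submodule.Quotient.mk_eq_zero _).2
        (Ideal.mem_sup_right (Ideal.mul_mem_right _ _ (Ideal.subset_span rfl)))
  have hqs : Function.Surjective q := by
    intro y
    obtain ⟨a, rfl⟩ := Ideal.Quotient.mk_surjective y
    exact ⟨Ideal.Quotient.mk p a, rfl⟩
  have hsinj : Function.Injective (s • (LinearMap.id : B →ₗ[A] B)) := by
    rw [injective_iff_map_eq_zero]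
    intro y hy
    obtain ⟨a, rfl⟩ := Ideal.Quotient.mk_surjective y
    have : Ideal.Quotient.mk p (s * a) = 0 := hy
    rw [Ideal.Quotient.eq_zero_iff_mem] at this ⊢
    exact (Ideal.IsPrime.mem_or_mem ‹_› this).resolve_left hs
  have hsm : ∀ (l : ℕ) (v : B ⊗[A] F l), (s • (LinearMap.id : B →ₗ[A] B)).rTensor (F l) v = s • v := by
    intro l v
    rw [LinearMap.rTensor_smul, LinearMap.rTensor_id]
    rfl
  have h2 : (d (i + 1)).lTensor C (q.rTensor _ w') = 0 := by
    rw [lTensor_rTensor, h1]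
    exact ((Module.Flat.rTensor_exact (M := F (i + 1)) (R := A) hexact) _).2 ⟨z, hsm _ z⟩
  obtain ⟨v₀, hv₀⟩ := hbig s hs (i + 1) (Nat.le_succ_of_le hi) _ h2
  obtain ⟨v, rfl⟩ := LinearMap.rTensor_surjective (F (i + 1 + 1 + 1)) hqs v₀
  have h3 : q.rTensor _ (w' - (d (i + 1 + 1)).lTensor B v) = 0 := by
    rw [map_sub, ← lTensor_rTensor, hv₀, sub_self]
  obtain ⟨w'', hw''⟩ := (Module.Flat.rTensor_exact (M := F (i + 1 + 1)) (R := A) hexact _).1 h3
  rw [hsm] at hw''
  refine ⟨w'', ?_⟩
  have h4 : s • (d (i + 1)).lTensor B w'' = s • z := by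
    rw [← map_smul, hw'', map_sub, h1, ← LinearMap.lTensor_comp_apply,
      show d (i + 1) ∘ₗ d (i + 1 + 1) = 0 from LinearMap.ext (hd (i + 1)), LinearMap.lTensor_zero,
      LinearMap.zero_apply, sub_zero]
  rw [← hsm, ← hsm] at h4
  exact Module.Flat.rTensor_preserves_injective_linearMap _ hsinj h4

/-- Exactness at all residue fields implies exactness for all modules. -/
theorem good_all [IsNoetherianRing A] {n : ℕ}
    (hk : ∀ (p : Ideal A) [p.IsPrime], Good F d n p.ResidueField) :
    ∀ (X : Type u) [AddCommGroup X] [Module A X], Good F d n X := by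
  have hprime : ∀ p : Ideal A, p.IsPrime → Good F d n (A ⧸ p) := by
    intro p
    induction p using WellFoundedGT.induction with
    | _ p ih =>
      intro hp
      exact good_quotient_prime F d hd p (hk p) fun q hq hpq => ih q hpq hq
  have hfin : ∀ (X : Type u) [AddCommGroup X] [Module A X], Module.Finite A X → Good F d n X := by
    intro X _ _ hX
    refine IsNoetherianRing.induction_on_isQuotientEquivQuotientPrime A (M := X) hX
      (motive := fun N _ _ _ => Good F d n N) ?_ ?_ ?_
    · intro N _ _ _ _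
      exact good_of_subsingleton F d n N
    · intro N _ _ _ q e
      exact good_of_equiv F d e.symm (hprime q.1 q.2)
    · intro N₁ _ _ _ N₂ _ _ _ N₃ _ _ _ f g hf hg hfg h1 h3
      exact good_of_exact F d hfg hf hg hd h1 h3
  intro X _ _ i hi z hz
  obtain ⟨X', hX', hz'⟩ := TensorProduct.exists_finite_submodule_left_of_setFinite
    ({z} : Set (X ⊗[A] F (i + 1))) (Set.finite_singleton z)
  obtain ⟨z', rfl⟩ := hz' (Set.mem_singleton z)
  rw [lTensor_rTensor] at hz
  have h0 : (d i).lTensor X' z' = 0 :=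
    Module.Flat.rTensor_preserves_injective_linearMap (M := F i) _ X'.injective_subtype
      (hz.trans (map_zero _).symm)
  obtain ⟨w, hw⟩ := hfin X' hX' i hi z' h0
  exact ⟨X'.subtype.rTensor _ w, by rw [lTensor_rTensor, hw]⟩

end Groth.Agent.TorDetect
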